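import Groth.Agent.Lib.BlowUpExist.Proper
import Groth.Agent.Lib.CohFound.Qcqs

/-!
# Affine charts of a blowing up indexed by generators of the centre
-/

universe u

open CategoryTheory CategoryTheory.Limits AlgebraicGeometry TopologicalSpace

namespace Groth.Agent.BlowCover5

open BlowUpExist BlowUpExist.ChartIdx AlgebraicGeometry.Scheme.IdealSheafData
open scoped nonZeroDivisors

variable {X Y : Scheme.{u}} {C : X.IdealSheafData} {b : Y ⟶ X}

/-- A blowing up of an affine scheme is covered by affine opens indexed by generators of the centre. -/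
theorem exists_affine_cover [IsAffine X] (s : Finset Γ(X, ⊤))
    (hs : Ideal.span (s : Set Γ(X, ⊤)) = C.ideal ⟨⊤, isAffineOpen_top X⟩) (hb : BlowUp.IsBlowUp b C) :
    ∃ W : s → Y.Opens, (∀ k, IsAffineOpen (W k)) ∧ ⨆ k, W k = ⊤ := by
  classical
  have hs' : ∀ k : s, k.1 ∈ (C ^ (0 + 1)).ideal ⟨⊤, isAffineOpen_top X⟩ := fun k => by
    rw [zero_add, pow_one, ← hs]; exact Ideal.subset_span k.2
  let i : s → ChartIdx C := fun k => ⟨⟨⊤, isAffineOpen_top X⟩, 0, k.1, hs' k⟩
  have hCn : BlowUp.IsEffCartierIdeal ((C ^ (0 + 1)).comap b) := by rw [zero_add, pow_one]; exact hb.1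
  refine ⟨fun k => (i k).locus b, fun k => isAffineOpen_locus hb _, ?_⟩
  refine top_le_iff.mp fun y _ => Opens.mem_iSup.mpr ?_
  obtain ⟨V, hyV, e, he⟩ := EffCartier.isEffCartierIdeal_iff.mp hCn y
  have hdvd : ∀ k : s, e ∣ b.appLE ⊤ V.1 (fun _ _ => trivial) k.1 := fun k => by
    rw [← Ideal.mem_span_singleton, ← he.ideal_eq, EffCartier.comap_ideal _ b ⟨⊤, isAffineOpen_top X⟩ V (fun _ _ => trivial)]
    exact Ideal.mem_map_of_mem _ (hs' k)
  choose z hz using hdvd
  have hemem : e ∈ Ideal.span (Set.range fun k : s => b.appLE ⊤ V.1 (fun _ _ => trivial) k.1) := by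
    have h1 : e ∈ ((C ^ (0 + 1)).comap b).ideal V := by rw [he.ideal_eq]; exact Ideal.subset_span rfl
    rw [EffCartier.comap_ideal _ b ⟨⊤, isAffineOpen_top X⟩ V (fun _ _ => trivial), zero_add, pow_one, ← hs,
      Ideal.map_span] at h1
    refine Ideal.span_mono ?_ h1
    rintro _ ⟨a, ha, rfl⟩
    exact ⟨⟨a, ha⟩, rfl⟩
  obtain ⟨r, hr⟩ := (Ideal.mem_span_range_iff_exists_fun).mp hemem
  have h1 : ∑ k, r k * z k = 1 := (mul_cancel_left_mem_nonZeroDivisors he.mem).mp (by
    rw [mul_one, Finset.mul_sum]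
    exact (Finset.sum_congr rfl fun k _ => by rw [hz k]; ring).trans hr)
  have : ∃ k, y ∈ Y.basicOpen (z k) := by
    by_contra hne
    push Not at hne
    have hmem : Y.presheaf.germ V.1 y hyV (∑ k, r k * z k) ∈ IsLocalRing.maximalIdeal _ := by
      rw [map_sum]
      refine sum_mem fun k _ => ?_
      rw [map_mul]
      exact Ideal.mul_mem_left _ _ fun hu => hne k ((Scheme.mem_basicOpen _ _ _ hyV).mpr hu)
    rw [h1, map_one] at hmem
    exact (IsLocalRing.notMem_maximalIdeal.mpr isUnit_one) hmem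
  obtain ⟨k, hk⟩ := this
  exact ⟨k, le_locus (mem_basicOpen_ι (i k) hb.1 (V := V) (fun _ _ => trivial) he (z k) (hz k)) hk⟩

end Groth.Agent.BlowCover5
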